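import Groth.Agent.Algz.K165.Improve
import Groth.Agent.Algz.K573.StrictConn
import Groth.Agent.Algz.K573.StrictSec
import Groth.Agent.Algz.K573.HatIso
import Groth.Agent.Algz.K573.Epi
import Groth.Agent.S1721
import Groth.Agent.S0328

/-!
# A coherent algebraization of depth at least two off `V(I)`
-/

set_option autoImplicit false
universe u

open CategoryTheory CategoryTheory.Limits AlgebraicGeometry Opposite
attribute [local instance] HasDerivedCategory.standard
open Groth.Agent Groth.Agent.FormalB.PuncTheta Groth.Agent.FormalB.ModPow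
  Groth.Agent.Ega4B.CatHeight IsLocalRing

namespace K165.Asm

variable {A : Type u} [CommRing A] [IsNoetherianRing A]

theorem cdLE_mono {R : Type u} [CommRing R] {I : Ideal R} {d n : ℕ} (h : d ≤ n)
    (hd : LocCoh.CdLE R I d) : LocCoh.CdLE R I n :=
  fun M _ _ i hi => hd M i (lt_of_le_of_lt h hi)

open Groth.Agent.CalgA.CatOrder in
/-- The height of a minimal prime over `q + I` above `q` is at most the cohomological dimension. -/
theorem rlen_le_of_cdLE (I : Ideal A) (d : ℕ) (hcd : LocCoh.CdLE A I d) (q z : PrimeSpectrum A)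
    (hz : z.asIdeal ∈ (q.asIdeal ⊔ I).minimalPrimes) : rlen q z ≤ d := by
  let R := Localization.AtPrime z.asIdeal
  have hNR : IsNoetherianRing R := IsLocalization.isNoetherianRing z.asIdeal.primeCompl _ inferInstance
  have hqz : q ≤ z := le_sup_left.trans hz.1.2
  obtain ⟨P, hP⟩ : q ∈ Set.range (comapLoc (S := R) z.asIdeal.primeCompl) := by
    rw [range_comapLoc]
    exact Set.disjoint_left.2 fun x hx hxp => hx (hqz hxp)
  have hP' : PrimeSpectrum.comap (algebraMap A R) P = q := hP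
  let Z : PrimeSpectrum R := closedPoint R
  have hZ : PrimeSpectrum.comap (algebraMap A R) Z = z :=
    PrimeSpectrum.ext (Localization.AtPrime.under_maximalIdeal (I := z.asIdeal))
  have hrl : rlen q z = rlen P Z :=
    (congrArg₂ rlen hP'.symm hZ.symm).trans
      (LoccohA.CutoffLoc.rlen_comap_localization z.asIdeal.primeCompl P Z)
  rw [hrl]
  by_contra hlt
  rw [not_le] at hlt
  obtain ⟨n, hn⟩ := ENat.ne_top_iff_exists.1 (rlen_ne_top P Z)
  rw [← hn] at hlt
  have hdn : d < n := by exact_mod_cast hlt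
  have hdim : ringKrullDim (R ⧸ P.asIdeal) = n := by
    rw [LoccohA.EquidimS2.ringKrullDim_quotient_eq_rlen P]
    change ((rlen P Z : ℕ∞) : WithBot ℕ∞) = _
    rw [← hn]
    rfl
  have hIz : I.map (algebraMap A R) ≤ maximalIdeal R := by
    rw [Ideal.map_le_iff_le_comap]
    exact (le_sup_right.trans hz.1.2).trans (congrArg PrimeSpectrum.asIdeal hZ).ge
  have hrad : (P.asIdeal ⊔ I.map (algebraMap A R)).radical = maximalIdeal R := by
    refine le_antisymm ?_ ?_
    · rw [Ideal.IsPrime.radical_le_iff (maximalIdeal.isMaximal R).isPrime]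
      exact sup_le (le_maximalIdeal P.2.ne_top) hIz
    · rw [Ideal.radical_eq_sInf]
      refine le_sInf ?_
      rintro Q ⟨hQ, hQp⟩
      let Q' : PrimeSpectrum R := ⟨Q, hQp⟩
      have h1 : q.asIdeal ≤ (PrimeSpectrum.comap (algebraMap A R) Q').asIdeal := by
        rw [← hP']
        exact Ideal.comap_mono (le_sup_left.trans hQ)
      have h2 : I ≤ (PrimeSpectrum.comap (algebraMap A R) Q').asIdeal :=
        Ideal.map_le_iff_le_comap.1 (le_sup_right.trans hQ)
      have h3 : (PrimeSpectrum.comap (algebraMap A R) Q').asIdeal ≤ z.asIdeal :=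
        (Ideal.comap_mono (le_maximalIdeal hQp.ne_top)).trans
          (congrArg PrimeSpectrum.asIdeal hZ).le
      have h4 := hz.2 ⟨(PrimeSpectrum.comap (algebraMap A R) Q').2, sup_le h1 h2⟩ h3
      have h5 : comapLoc (S := R) z.asIdeal.primeCompl Z ≤
          comapLoc (S := R) z.asIdeal.primeCompl Q' := by
        change PrimeSpectrum.comap (algebraMap A R) Z ≤ PrimeSpectrum.comap (algebraMap A R) Q'
        rw [hZ]
        exact h4
      exact (comapLoc (S := R) z.asIdeal.primeCompl).le_iff_le.1 h5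
  refine Groth.Agent.S0328.result R (I.map (algebraMap A R)) ?_ P.asIdeal ?_ n hdim
    (by omega) ?_
  · rintro h
    rw [h] at hIz
    exact (maximalIdeal.isMaximal R).ne_top (top_le_iff.1 hIz)
  · exact hrad
  · exact cdLE_mono (by omega) (Localalg.LCRows.cdLE_map (B := R) I d hcd)

variable {I 𝔞 : Ideal A} {M : Type u} [AddCommGroup M] [Module A M] {d : ℕ}

/-- The points all of whose specializations in `V(I)` are in `V(𝔞)`. -/
def T (I 𝔞 : Ideal A) : Set (PrimeSpectrum A) :=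
  {q | ∀ r : PrimeSpectrum A, q ≤ r → I ≤ r.asIdeal → 𝔞 ≤ r.asIdeal}

omit [IsNoetherianRing A] in
theorem stable_T : StableUnderSpecialization (T I 𝔞) := by
  intro x y hxy hx r hr
  exact hx r (((PrimeSpectrum.le_iff_specializes x y).2 hxy).trans hr)

theorem one_le_depthAt [IsAdicComplete I A] (hI𝔞 : I ≤ 𝔞)
    (hω : ∃ ω : Dual.D A, Dual.IsDualizing A ω) (hcd : LocCoh.CdLE A I d)
    (hK : K573.StrictConn.Key I 𝔞 M d) (p q : PrimeSpectrum A) (hpq : p ⋖ q) (hq : q ∈ T I 𝔞)
    (hp : p ∉ T I 𝔞) (hq𝔞 : ¬ 𝔞 ≤ q.asIdeal) : 1 ≤ Algz.depthAt p M := by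
  by_contra hlt
  have hd : Algz.depthAt p M = 0 := by
    rwa [not_le, Order.lt_one_iff] at hlt
  have hIq : ¬ I ≤ q.asIdeal := fun h => hq𝔞 (hq q le_rfl h)
  have hIp : ¬ I ≤ p.asIdeal := fun h => hIq (h.trans hpq.le)
  have hp' : ∃ r : PrimeSpectrum A, p ≤ r ∧ I ≤ r.asIdeal ∧ ¬ 𝔞 ≤ r.asIdeal := by
    by_contra hcon
    push Not at hcon
    exact hp hcon
  obtain ⟨r, hpr, hIr, hr⟩ := hp'
  obtain ⟨m, hm, hqm⟩ := Ideal.exists_le_maximal q.asIdeal q.2.ne_top
  have hIm : I ≤ m := by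
    have h1 : I ≤ (⊥ : Ideal A).jacobson := IsAdicComplete.le_jacobson_bot I
    exact h1.trans (sInf_le ⟨bot_le, hm⟩)
  obtain ⟨z, hz, hzm⟩ := Ideal.exists_minimalPrimes_le (I := q.asIdeal ⊔ I) (J := m)
    (sup_le hqm hIm)
  let z' : PrimeSpectrum A := ⟨z, hz.1.1⟩
  have hqz : q ≤ z' := le_sup_left.trans hz.1.2
  have h𝔞z : 𝔞 ≤ z'.asIdeal := hq z' hqz (le_sup_right.trans hz.1.2)
  have h1 := K573.StrictConn.lt_rlen hI𝔞 hω hcd hK hIp hd hpr hIr hr (hpq.le.trans hqz) h𝔞z
  obtain ⟨ω, hω'⟩ := hω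
  have hcat : CAlg.IsCatenary A := (Groth.Agent.S1721.result A ω hω').2 A inferInstance
  rw [isCatenary_iff.1 hcat p q z' hpq.le hqz, rlen_eq_one_of_covBy hpq] at h1
  have h2 := rlen_le_of_cdLE I d hcd q z' hz
  have h3 : (1 : ℕ∞) + rlen q z' ≤ ((d + 1 : ℕ) : ℕ∞) := by
    rw [Nat.cast_add, Nat.cast_one, add_comm]
    gcongr
  exact absurd h1 (not_lt.2 h3)

omit [IsNoetherianRing A] in
theorem isTorsOn_of_loc (U : (Spec (CommRingCat.of A)).Opens) (Q : Type u) [AddCommGroup Q]
    [Module A Q] (h : ∀ p : PrimeSpectrum A, (show Spec (CommRingCat.of A) from p) ∈ U →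
      ∀ x : Q, ∃ s ∉ p.asIdeal, s • x = 0) : IsTorsOn U Q := by
  intro g hg x
  have h1 : g ∈ (Ideal.torsionOf A Q x).radical := by
    rw [Ideal.radical_eq_sInf, Ideal.mem_sInf]
    rintro P ⟨hP, hPp⟩
    by_contra hgP
    obtain ⟨s, hs, hsx⟩ := h ⟨P, hPp⟩ (hg (show (⟨P, hPp⟩ : PrimeSpectrum A) ∈ D g from hgP)) x
    exact hs (hP hsx)
  obtain ⟨k, hk⟩ := h1
  exact ⟨k, hk⟩

section Quot

variable {N : Type u} [AddCommGroup N] [Module A N]

/-- `f` is bijective at `p`, elementwise. -/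
structure BijAt (p : PrimeSpectrum A) (f : M →ₗ[A] N) : Prop where
  inj : ∀ m, f m = 0 → ∃ s ∉ p.asIdeal, s • m = 0
  surj : ∀ n, ∃ s ∉ p.asIdeal, ∃ m, f m = s • n

omit [IsNoetherianRing A] in
theorem bijAt_of (p : PrimeSpectrum A) (f : M →ₗ[A] N)
    (h : Function.Bijective (LocalizedModule.map p.asIdeal.primeCompl f)) : BijAt p f where
  inj m hm := by
    have h1 : LocalizedModule.map p.asIdeal.primeCompl f (LocalizedModule.mk m 1) = 0 := by
      rw [LocalizedModule.map_mk, hm, LocalizedModule.zero_mk]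
    have h2 : (LocalizedModule.mk m 1 : LocalizedModule p.asIdeal.primeCompl M) = 0 :=
      h.1 (h1.trans (map_zero _).symm)
    obtain ⟨t, ht⟩ := Improve.mk_eq_zero h2
    exact ⟨t, t.2, ht⟩
  surj n := by
    obtain ⟨x, hx⟩ := h.2 (LocalizedModule.mk n 1)
    induction x using LocalizedModule.induction_on with
    | h m s =>
      rw [LocalizedModule.map_mk, LocalizedModule.mk_eq] at hx
      obtain ⟨t, ht⟩ := hx
      refine ⟨(t * s : p.asIdeal.primeCompl), (t * s).2, (t : A) • m, ?_⟩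
      rw [map_smul, Submonoid.coe_mul, mul_smul]
      rw [one_smul] at ht
      exact ht

/-- The map on quotients by `J`. -/
noncomputable def quotMap (J : Ideal A) (f : M →ₗ[A] N) :
    (M ⧸ (J • ⊤ : Submodule A M)) →ₗ[A] (N ⧸ (J • ⊤ : Submodule A N)) :=
  Submodule.mapQ _ _ f (by
    rw [Submodule.smul_le]
    intro r hr m _
    rw [Submodule.mem_comap, map_smul]
    exact Submodule.smul_mem_smul hr trivial)

omit [IsNoetherianRing A] in
theorem bijAt_quotMap (J : Ideal A) (f : M →ₗ[A] N) (p : PrimeSpectrum A)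
    (h : ¬ J ≤ p.asIdeal ∨ BijAt p f) : BijAt p (quotMap J f) := by
  by_cases hJ : J ≤ p.asIdeal
  · have h := h.resolve_left (not_not_intro hJ)
    have key : ∀ x ∈ (J • ⊤ : Submodule A N), ∃ s ∉ p.asIdeal, ∃ y ∈ (J • ⊤ : Submodule A M),
        f y = s • x := by
      intro x hx
      refine Submodule.smul_induction_on hx ?_ ?_
      · intro r hr n _
        obtain ⟨s, hs, m, hm⟩ := h.surj n
        exact ⟨s, hs, r • m, Submodule.smul_mem_smul hr trivial, by
          rw [map_smul, hm, smul_comm]⟩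
      · rintro x x' ⟨s, hs, y, hy, hfy⟩ ⟨s', hs', y', hy', hfy'⟩
        refine ⟨s * s', fun hmem => (p.2.mem_or_mem hmem).elim hs hs', s' • y + s • y',
          add_mem (Submodule.smul_mem _ _ hy) (Submodule.smul_mem _ _ hy'), ?_⟩
        rw [map_add, map_smul, map_smul, hfy, hfy', smul_add, smul_smul, smul_smul, mul_comm s']
    constructor
    · intro m hm
      obtain ⟨m, rfl⟩ := Submodule.Quotient.mk_surjective _ m
      have h1 : f m ∈ (J • ⊤ : Submodule A N) := (Submodule.Quotient.mk_eq_zero _).1 hm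
      obtain ⟨s, hs, y, hy, hfy⟩ := key _ h1
      obtain ⟨t, ht, hty⟩ := h.inj (y - s • m) (by rw [map_sub, map_smul, hfy, sub_self])
      refine ⟨t * s, fun hmem => (p.2.mem_or_mem hmem).elim ht hs, ?_⟩
      rw [← Submodule.Quotient.mk_smul, Submodule.Quotient.mk_eq_zero, mul_smul]
      rw [smul_sub, sub_eq_zero] at hty
      rw [← hty]
      exact Submodule.smul_mem _ _ hy
    · intro n
      obtain ⟨n, rfl⟩ := Submodule.Quotient.mk_surjective _ n
      obtain ⟨s, hs, m, hm⟩ := h.surj n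
      refine ⟨s, hs, Submodule.Quotient.mk m, ?_⟩
      rw [← Submodule.Quotient.mk_smul, ← hm]
      rfl
  · obtain ⟨a, ha, hap⟩ := Set.not_subset.1 hJ
    constructor
    · intro m _
      obtain ⟨m, rfl⟩ := Submodule.Quotient.mk_surjective _ m
      refine ⟨a, hap, ?_⟩
      rw [← Submodule.Quotient.mk_smul, Submodule.Quotient.mk_eq_zero]
      exact Submodule.smul_mem_smul ha trivial
    · intro n
      obtain ⟨n, rfl⟩ := Submodule.Quotient.mk_surjective _ n
      refine ⟨a, hap, 0, ?_⟩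
      rw [map_zero, ← Submodule.Quotient.mk_smul, eq_comm, Submodule.Quotient.mk_eq_zero]
      exact Submodule.smul_mem_smul ha trivial

omit [IsNoetherianRing A] in
theorem isIso_thetaMap (U : (Spec (CommRingCat.of A)).Opens) (f : M →ₗ[A] N)
    (h : ∀ p : PrimeSpectrum A, (show Spec (CommRingCat.of A) from p) ∈ U → BijAt p f) :
    IsIso (thetaMap U f) := by
  rw [isIso_thetaMap_iff]
  constructor
  · refine isTorsOn_of_loc U _ fun p hp x => ?_
    obtain ⟨s, hs, hsx⟩ := (h p hp).inj x.1 x.2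
    exact ⟨s, hs, Subtype.ext hsx⟩
  · refine isTorsOn_of_loc U _ fun p hp x => ?_
    obtain ⟨x, rfl⟩ := Submodule.Quotient.mk_surjective _ x
    obtain ⟨s, hs, m, hm⟩ := (h p hp).surj x
    refine ⟨s, hs, ?_⟩
    rw [← Submodule.Quotient.mk_smul, Submodule.Quotient.mk_eq_zero, ← hm]
    exact ⟨m, rfl⟩

omit [IsNoetherianRing A] in
/-- Completions of modules which are isomorphic near `V(I)`. -/
theorem nonempty_completionIso (I : Ideal A) (U : (Spec (CommRingCat.of A)).Opens) (f : M →ₗ[A] N)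
    (h : ∀ p : PrimeSpectrum A, (show Spec (CommRingCat.of A) from p) ∈ U → I ≤ p.asIdeal →
      BijAt p f) :
    Nonempty (Formal.completion I ((Theta U).obj (ModuleCat.of A M)) ≅
      Formal.completion I ((Theta U).obj (ModuleCat.of A N))) := by
  have hmod : ∀ n : ℕ, IsModPow (I ^ (n + 1))
      (thetaMap U f ≫ cπ I ((Theta U).obj (ModuleCat.of A N)) n) := by
    intro n
    let J : Ideal A := I ^ (n + 1)
    let qM : M →ₗ[A] (M ⧸ (J • ⊤ : Submodule A M)) := (J • ⊤ : Submodule A M).mkQ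
    let qN : N →ₗ[A] (N ⧸ (J • ⊤ : Submodule A N)) := (J • ⊤ : Submodule A N).mkQ
    have hM := isModPow_thetaMap U J qM (Submodule.mkQ_surjective _) (Submodule.ker_mkQ _)
    have hN := isModPow_thetaMap U J qN (Submodule.mkQ_surjective _) (Submodule.ker_mkQ _)
    have hiso : IsIso (thetaMap U (quotMap J f)) := by
      refine isIso_thetaMap U _ fun p hp => bijAt_quotMap J f p ?_
      by_cases hI : I ≤ p.asIdeal
      · exact Or.inr (h p hp hI)
      · left
        intro hJ
        exact hI (p.2.le_of_pow_le hJ)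
    have h1 : IsModPow J (thetaMap U qM ≫ thetaMap U (quotMap J f)) := hM.comp_iso _
    have h2 : thetaMap U qM ≫ thetaMap U (quotMap J f) = thetaMap U f ≫ thetaMap U qN := by
      change (Theta U).map _ ≫ (Theta U).map _ = (Theta U).map _ ≫ (Theta U).map _
      rw [← Functor.map_comp, ← Functor.map_comp]
      rfl
    rw [h2] at h1
    obtain ⟨e, he, -⟩ := hN.exists_iso (isModPow_cπ I ((Theta U).obj (ModuleCat.of A N)) n)
    rw [← he, ← Category.assoc]
    exact h1.comp_iso _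
  exact ⟨completionIso I (fun n => thetaMap U f ≫ cπ I ((Theta U).obj (ModuleCat.of A N)) n) hmod
    (fun n => by rw [Category.assoc, cπ_map_succ])⟩

end Quot

/-- The algebraization of depth at least two. -/
theorem exists_depthTwo [IsAdicComplete I A] (hI𝔞 : I ≤ 𝔞)
    (hω : ∃ ω : Dual.D A, Dual.IsDualizing A ω) (hcd : LocCoh.CdLE A I d)
    (F₀ : (↑(LocCoh.puncturedOpen A 𝔞) : Scheme.{u}).Modules) (hF₀ : Coh.IsCoh F₀)
    (h₂ : Algz.StrictAbIneq A I (LocCoh.puncturedOpen A 𝔞) (Formal.completion I F₀) 1 (1 + d)) :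
    ∃ F : (↑(LocCoh.puncturedOpen A 𝔞) : Scheme.{u}).Modules, Coh.IsCoh F ∧
      K573.StrictSec.DepthTwo I 𝔞 F ∧
      Nonempty (Formal.completion I F₀ ≅ Formal.completion I F) := by
  obtain ⟨M, i1, i2, hMf, ⟨e⟩⟩ := K573.StrictComp.exists_mod _ F₀ hF₀
  have hK := K573.StrictConn.key_of_strict hω I 𝔞 F₀ hF₀ e d h₂
  obtain ⟨M'', _, _, hM''f, f, hbij, hdep⟩ := Improve.exists_map_open hω 𝔞 (T I 𝔞) stable_T M
    (fun p q hpq hq hp hq𝔞 => one_le_depthAt hI𝔞 hω hcd hK p q hpq hq hp hq𝔞)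
  let F := (Theta (LocCoh.puncturedOpen A 𝔞)).obj (ModuleCat.of A M'')
  refine ⟨F, ?_, ?_, ?_⟩
  · refine K573.Epi.isCoh_theta _ (⊤ : Submodule A M'') (Module.Finite.iff_fg.1 (Module.Finite.equiv
      Submodule.topEquiv.symm)) ?_
    intro g _ q
    obtain ⟨q, rfl⟩ := Submodule.Quotient.mk_surjective _ q
    exact ⟨0, by rw [pow_zero, one_smul, Submodule.Quotient.mk_eq_zero]; trivial⟩
  · rw [K573.StrictSec.depthTwo_iff I 𝔞 F (Iso.refl _)]
    intro p hp hr
    exact hdep p hr hp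
  · obtain ⟨c⟩ := nonempty_completionIso I (LocCoh.puncturedOpen A 𝔞) f (fun p hp hI =>
      bijAt_of p f (hbij p (fun hT => hp (hT p le_rfl hI))))
    exact ⟨K573.Compl.completionMapIso I e.symm ≪≫ c⟩

end K165.Asm
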