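import Groth.Agent.S1738
import Groth.Agent.S1727
import Groth.Agent.S0377
import Groth.Agent.LoccohA.ExtendT
import Groth.Agent.Ega4B.LocTransfer
import Groth.Agent.CurvesB.InjLoc
import Groth.Prelude.Def_Algz2

/-!
# Improving a finite module along a specialization stable subset of an open of `Spec A`

`exists_map_open`: the version of the extension theorem over the complement of `V(𝔞)`.
-/

set_option autoImplicit false
universe u

open CategoryTheory
attribute [local instance] HasDerivedCategory.standard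

namespace K165.Improve

open Groth.Agent.LoccohA Groth.Agent.LoccohA.LCTGam Groth.Agent.LoccohA.ExtendT

section Two

variable {B : Type u} [CommRing B] [IsNoetherianRing B] (T : Set (PrimeSpectrum B))

/-- Depth at least two along `T` of a `T`-closed submodule of a `T`-torsion free injective module. -/
theorem two_le_depth (hT : StableUnderSpecialization T) {E : Type u} [AddCommGroup E] [Module B E]
    [Module.Injective B E] (hE : gam T E = ⊥) (P : Submodule B E) [Module.Finite B P]
    (hP : gam T (E ⧸ P) = ⊥) (p : PrimeSpectrum B) (hp : p ∈ T) :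
    2 ≤ LocCoh.depth (Localization.AtPrime p.asIdeal)
      (LocalizedModule p.asIdeal.primeCompl P) := by
  have hpT : PrimeSpectrum.zeroLocus (p.asIdeal : Set B) ⊆ T := by
    intro q hq
    exact hT ((PrimeSpectrum.le_iff_specializes p q).1 hq) hp
  refine le_trans ?_ (Groth.Agent.Localalg.Depth3.idealDepth_le_depth_localization p.asIdeal P
    p.asIdeal le_rfl)
  have h0 := subsingleton_ext_zero T hE p.asIdeal hpT
  have h1 := subsingleton_ext_zero T hP p.asIdeal hpT
  have hS := shortExact_quotient P
  refine (Groth.Agent.Localalg.Depth.natCast_le_idealDepth_iff_ext p.asIdeal P 2).2 ?_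
  intro i hi
  have hi' : i = 0 ∨ i = 1 := by omega
  rcases hi' with rfl | rfl
  · exact Groth.Agent.Localalg.Depth.ext_X₁_zero_subsingleton hS _ h0
  · refine Groth.Agent.Localalg.Depth.ext_X₁_succ_subsingleton hS _ h1 ?_
    have : Injective (ModuleCat.of B E) := Module.injective_object_of_injective_module B E
    exact subsingleton_of_forall_eq 0 fun x => Abelian.Ext.eq_zero_of_injective x

end Two

section Loc

variable {A : Type u} [CommRing A] (S : Submonoid A) (T : Set (PrimeSpectrum A))

/-- The primes of the localization lying over `T`. -/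
def TS : Set (PrimeSpectrum (Localization S)) :=
  PrimeSpectrum.comap (algebraMap A (Localization S)) ⁻¹' T

theorem stable_TS (hT : StableUnderSpecialization T) : StableUnderSpecialization (TS S T) := by
  intro x y hxy hx
  refine hT ?_ hx
  rw [← PrimeSpectrum.le_iff_specializes] at hxy ⊢
  exact Ideal.comap_mono hxy

theorem zeroLocus_comap_subset (hT : StableUnderSpecialization T) (J : Ideal (Localization S))
    (hJ : PrimeSpectrum.zeroLocus (J : Set (Localization S)) ⊆ TS S T) :
    PrimeSpectrum.zeroLocus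
      ((J.comap (algebraMap A (Localization S)) : Ideal A) : Set A) ⊆ T := by
  intro q hq
  obtain ⟨q', hq', hle⟩ := Ideal.exists_minimalPrimes_le
    (I := J.comap (algebraMap A (Localization S))) (J := q.asIdeal) hq
  rw [IsLocalization.minimalPrimes_comap S (Localization S) J] at hq'
  obtain ⟨P, hP, rfl⟩ := hq'
  have hPp : P.IsPrime := hP.1.1
  have h1 : PrimeSpectrum.comap (algebraMap A (Localization S)) ⟨P, hPp⟩ ∈ T := hJ hP.1.2
  exact hT ((PrimeSpectrum.le_iff_specializes _ q).1 hle) h1

theorem zeroLocus_map_subset (J : Ideal A) (hJ : PrimeSpectrum.zeroLocus (J : Set A) ⊆ T) :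
    PrimeSpectrum.zeroLocus
      ((J.map (algebraMap A (Localization S)) : Ideal (Localization S)) :
        Set (Localization S)) ⊆ TS S T := by
  intro q hq
  exact hJ (Ideal.map_le_iff_le_comap.1 hq)

variable {X : Type u} [AddCommGroup X] [Module A X]

variable {S} in
theorem mk_eq_zero {m : X} {s : S} (h : (LocalizedModule.mk m s : LocalizedModule S X) = 0) :
    ∃ t : S, t • m = 0 := by
  rw [← LocalizedModule.zero_mk 1, LocalizedModule.mk_eq] at h
  obtain ⟨t, ht⟩ := h
  rw [smul_zero, smul_zero, one_smul] at ht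
  exact ⟨t, ht⟩

variable {S} in
theorem mk_eq_zero_of {m : X} {t : S} (h : t • m = 0) :
    (LocalizedModule.mk m 1 : LocalizedModule S X) = 0 := by
  rw [← LocalizedModule.zero_mk 1, LocalizedModule.mk_eq]
  exact ⟨t, by rw [smul_zero, smul_zero, one_smul, h]⟩

theorem mk_mem_gam {y : X} (hy : y ∈ gam T X) :
    (LocalizedModule.mk y 1 : LocalizedModule S X) ∈ gam (TS S T) (LocalizedModule S X) := by
  obtain ⟨J, hJ, hJy⟩ := (mem_gam_iff_exists y).1 hy
  refine mem_gam_of _ _ (zeroLocus_map_subset S T J hJ) ?_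
  intro a ha
  have hle : J.map (algebraMap A (Localization S)) ≤ Ideal.torsionOf (Localization S)
      (LocalizedModule S X) (LocalizedModule.mk y 1) := by
    rw [Ideal.map_le_iff_le_comap]
    intro j hj
    rw [Ideal.mem_comap, Ideal.mem_torsionOf_iff, algebraMap_smul, LocalizedModule.smul'_mk,
      hJy j hj, LocalizedModule.zero_mk]
  exact hle ha

theorem exists_of_mem_gam [IsNoetherianRing A] (hT : StableUnderSpecialization T)
    (x : LocalizedModule S X) (hx : x ∈ gam (TS S T) (LocalizedModule S X)) :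
    ∃ (s : S) (y : X), y ∈ gam T X ∧ (s : A) • x = LocalizedModule.mk y 1 := by
  classical
  obtain ⟨J, hJ, hJx⟩ := (mem_gam_iff_exists x).1 hx
  induction x using LocalizedModule.induction_on with
  | h m s =>
    let K : Ideal A := J.comap (algebraMap A (Localization S))
    have hK := zeroLocus_comap_subset S T hT J hJ
    have hex : ∀ a ∈ K, ∃ t : S, t • (a • m) = 0 := by
      intro a ha
      have h1 := hJx _ ha
      rw [algebraMap_smul, LocalizedModule.smul'_mk] at h1
      exact mk_eq_zero h1
    obtain ⟨G, hG⟩ : K.FG := (isNoetherianRing_iff_ideal_fg A).1 inferInstance K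
    have hGK : ∀ g ∈ G, g ∈ K := fun g hg => hG ▸ Ideal.subset_span hg
    choose t ht using hex
    let t0 : S := ∏ g ∈ G.attach, t g.1 (hGK g.1 g.2)
    have hkill : ∀ a ∈ K, a • (t0 • m) = 0 := by
      have hle : K ≤ Ideal.torsionOf A X (t0 • m) := by
        rw [← hG, Ideal.span_le]
        intro g hg
        rw [SetLike.mem_coe, Ideal.mem_torsionOf_iff, smul_comm]
        obtain ⟨c, hc⟩ : t g (hGK g hg) ∣ t0 :=
          Finset.dvd_prod_of_mem (fun g : {x // x ∈ G} => t g.1 (hGK g.1 g.2))
            (Finset.mem_attach G ⟨g, hg⟩)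
        rw [hc, mul_comm, mul_smul, ht, smul_zero]
      exact fun a ha => hle ha
    refine ⟨t0 * s, t0 • m, mem_gam_of _ K hK hkill, ?_⟩
    rw [LocalizedModule.smul'_mk, Submonoid.coe_mul, mul_smul, LocalizedModule.mk_eq]
    refine ⟨1, ?_⟩
    rw [one_smul, one_smul, one_smul, smul_comm]
    rfl

theorem gam_localized_eq_bot [IsNoetherianRing A] (hT : StableUnderSpecialization T)
    (h : ∀ y ∈ gam T X, ∃ s : S, s • y = 0) : gam (TS S T) (LocalizedModule S X) = ⊥ := by
  rw [eq_bot_iff]
  intro x hx
  obtain ⟨s, y, hy, hsx⟩ := exists_of_mem_gam S T hT x hx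
  obtain ⟨t, ht⟩ := h y hy
  rw [mk_eq_zero_of ht] at hsx
  rw [Submodule.mem_bot]
  have h2 := IsLocalizedModule.smul_injective (S := S) (LocalizedModule.mkLinearMap S X) s
  exact h2 (hsx.trans (smul_zero s).symm)

theorem exists_fg [IsNoetherianRing A] (hT : StableUnderSpecialization T)
    (hfin : Module.Finite (Localization S) (gam (TS S T) (LocalizedModule S X))) :
    ∃ Y : Submodule A X, Y.FG ∧ Y ≤ gam T X ∧ ∀ y ∈ gam T X, ∃ s : S, s • y ∈ Y := by
  classical
  obtain ⟨G, hG⟩ := (Module.Finite.iff_fg.1 hfin)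
  have hGm : ∀ g ∈ G, g ∈ gam (TS S T) (LocalizedModule S X) := fun g hg =>
    hG ▸ Submodule.subset_span hg
  have hch := fun g : {x // x ∈ G} => exists_of_mem_gam S T hT g.1 (hGm g.1 g.2)
  choose s y hy hsy using hch
  refine ⟨Submodule.span A (Set.range y), Submodule.fg_span (Set.finite_range y), ?_, ?_⟩
  · rw [Submodule.span_le]
    rintro _ ⟨g, rfl⟩
    exact hy g
  · intro z hz
    let Y := Submodule.span A (Set.range y)
    have hle : gam (TS S T) (LocalizedModule S X) ≤ Y.localized S := by
      rw [← hG, Submodule.span_le]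
      intro g hg
      refine (Submodule.mem_localized' _ _ _ _ _).2 ⟨y ⟨g, hg⟩, Submodule.subset_span ⟨_, rfl⟩,
        s ⟨g, hg⟩, ?_⟩
      rw [IsLocalizedModule.mk'_eq_iff]
      exact (hsy ⟨g, hg⟩).symm
    obtain ⟨m, hm, c, hmc⟩ := (Submodule.mem_localized' _ _ _ _ _).1 (hle (mk_mem_gam S T hz))
    rw [IsLocalizedModule.mk'_eq_iff] at hmc
    have h2 : LocalizedModule.mkLinearMap S X m = LocalizedModule.mkLinearMap S X (c • z) := by
      rw [hmc]
      exact ((LocalizedModule.mkLinearMap S X).map_smul (c : A) z).symm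
    obtain ⟨d, hd⟩ := (IsLocalizedModule.eq_iff_exists S (LocalizedModule.mkLinearMap S X)).1 h2
    refine ⟨d * c, ?_⟩
    rw [mul_smul, ← hd]
    exact Y.smul_mem (d : A) hm

end Loc

section Main

variable {A : Type u} [CommRing A] [IsNoetherianRing A]

omit [IsNoetherianRing A] in
open Groth.Agent.CalgA.CatOrder in
theorem covBy_comap (S : Submonoid A) {P Q : PrimeSpectrum (Localization S)} (h : P ⋖ Q) :
    PrimeSpectrum.comap (algebraMap A (Localization S)) P ⋖
      PrimeSpectrum.comap (algebraMap A (Localization S)) Q := by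
  have hr : ∀ a : PrimeSpectrum A, a ≤ comapLoc (S := Localization S) S Q →
      ∃ R, comapLoc (S := Localization S) S R = a := by
    intro a ha
    have hQ : comapLoc (S := Localization S) S Q ∈ Set.range (comapLoc (S := Localization S) S) :=
      ⟨Q, rfl⟩
    rw [range_comapLoc] at hQ
    have : a ∈ Set.range (comapLoc (S := Localization S) S) := by
      rw [range_comapLoc]
      exact Set.disjoint_of_subset_right (fun x hx => ha hx) hQ
    exact this
  change comapLoc (S := Localization S) S P ⋖ comapLoc (S := Localization S) S Q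
  refine ⟨(comapLoc (S := Localization S) S).strictMono h.1, fun c h1 h2 => ?_⟩
  obtain ⟨R, rfl⟩ := hr c h2.le
  exact h.2 ((comapLoc (S := Localization S) S).lt_iff_lt.1 h1)
    ((comapLoc (S := Localization S) S).lt_iff_lt.1 h2)

omit [IsNoetherianRing A] in
theorem depth_localized (S : Submonoid A) {E : Type u} [AddCommGroup E] [Module A E]
    (N : Submodule A E) (P : PrimeSpectrum (Localization S)) :
    LocCoh.depth (Localization.AtPrime P.asIdeal)
      (LocalizedModule P.asIdeal.primeCompl (N.localized S)) =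
    Algz.depthAt (PrimeSpectrum.comap (algebraMap A (Localization S)) P) N :=
  Groth.Agent.Ega4B.LocTransfer.depth_eq_of_isLocalization (R := A) (A := Localization S)
    (M := N) (M' := N.localized S) S (N.toLocalized S) P.asIdeal

theorem finite_gam_loc (hA : ∃ ω : Dual.D A, Dual.IsDualizing A ω) (T : Set (PrimeSpectrum A))
    (hT : StableUnderSpecialization T) (S : Submonoid A) {E : Type u} [AddCommGroup E] [Module A E]
    (hE : gam T E = ⊥) (N : Submodule A E) [Module.Finite A N]
    (hM : ∀ p q : PrimeSpectrum A, p ⋖ q → q ∈ T → p ∉ T → Disjoint (S : Set A) q.asIdeal →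
      1 ≤ Algz.depthAt p N) :
    Module.Finite (Localization S) (gam (TS S T) (LocalizedModule S (E ⧸ N))) := by
  have hB : ∃ ω : Dual.D (Localization S), Dual.IsDualizing (Localization S) ω :=
    Groth.Agent.S0377.HasDual.localization (A := A) S hA
  have hNoeth : IsNoetherianRing (Localization S) := IsLocalization.isNoetherianRing S _ inferInstance
  have hES : gam (TS S T) (LocalizedModule S E) = ⊥ := gam_localized_eq_bot S T hT (fun y hy => by
    rw [hE, Submodule.mem_bot] at hy
    exact ⟨1, by rw [hy, smul_zero]⟩)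
  have hNS : Module.Finite (Localization S) (N.localized S) :=
    Module.Finite.of_isLocalizedModule S (N.toLocalized S)
  have hHT : Module.Finite (Localization S) (Dual2.HT (TS S T) 1 (N.localized S)) := by
    refine (Groth.Agent.S1727.result (Localization S) hB (TS S T) (stable_TS S T hT) 1
      (N.localized S)).2 ?_ 1 le_rfl
    intro P Q hP hQ hPQ
    have hlt : P < Q := lt_of_le_of_ne hPQ (by rintro rfl; exact hP hQ)
    by_cases hcov : P ⋖ Q
    · have h1 : (1 : ℕ∞) ≤ LocCoh.depth (Localization.AtPrime P.asIdeal)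
          (LocalizedModule P.asIdeal.primeCompl (N.localized S)) := by
        refine (hM _ _ (covBy_comap S hcov) hQ hP ?_).trans (depth_localized S N P).ge
        have h4 : Groth.Agent.CalgA.CatOrder.comapLoc (S := Localization S) S Q ∈
            Set.range (Groth.Agent.CalgA.CatOrder.comapLoc (S := Localization S) S) := ⟨Q, rfl⟩
        rw [Groth.Agent.CalgA.CatOrder.range_comapLoc] at h4
        exact h4
      have h2 := Groth.Agent.S1738.one_le_krullDim_Icc hlt
      calc ((1 : ℕ) : WithBot ℕ∞) < ((1 : ℕ∞) : WithBot ℕ∞) + 1 := by decide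
        _ ≤ _ := add_le_add (WithBot.coe_le_coe.2 h1) h2
    · have h2 := Groth.Agent.S1738.two_le_krullDim_Icc hlt hcov
      calc ((1 : ℕ) : WithBot ℕ∞) < 2 := by decide
        _ = ((0 : ℕ∞) : WithBot ℕ∞) + 2 := by simp
        _ ≤ _ := add_le_add (WithBot.coe_le_coe.2 (zero_le)) h2
  have h3 := finite_gam_quotient (TS S T) hES (N.localized S) hHT
  let e := localizedQuotientEquiv S N
  let φ : gam (TS S T) (LocalizedModule S E ⧸ N.localized S) →ₗ[Localization S]
      gam (TS S T) (LocalizedModule S (E ⧸ N)) :=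
    e.toLinearMap.restrict (fun x hx => map_mem_gam e.toLinearMap hx)
  refine Module.Finite.of_surjective φ ?_
  rintro ⟨y, hy⟩
  refine ⟨⟨e.symm y, map_mem_gam e.symm.toLinearMap hy⟩, Subtype.ext ?_⟩
  exact e.apply_symm_apply y

/-- Extension of a finite module across a specialization stable subset, over `D(𝔞)`. -/
theorem exists_map_open (hA : ∃ ω : Dual.D A, Dual.IsDualizing A ω) (𝔞 : Ideal A)
    (T : Set (PrimeSpectrum A)) (hT : StableUnderSpecialization T) (M : Type u)
    [AddCommGroup M] [Module A M] [Module.Finite A M]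
    (hM : ∀ p q : PrimeSpectrum A, p ⋖ q → q ∈ T → p ∉ T → ¬ 𝔞 ≤ q.asIdeal →
      1 ≤ Algz.depthAt p M) :
    ∃ (M'' : Type u) (_ : AddCommGroup M'') (_ : Module A M'') (_ : Module.Finite A M'')
      (f : M →ₗ[A] M''),
      (∀ p : PrimeSpectrum A, p ∉ T →
        Function.Bijective (LocalizedModule.map p.asIdeal.primeCompl f)) ∧
      ∀ p : PrimeSpectrum A, p ∈ T → ¬ 𝔞 ≤ p.asIdeal → 2 ≤ Algz.depthAt p M'' := by
  classical
  obtain ⟨E0, _, _, hE0, f0, hf0⟩ := LES.exists_injective_embedding (A := A) (M ⧸ gam T M)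
  let E := E0 ⧸ gam T E0
  have hE : gam T E = ⊥ := gam_quotient_gam T E0
  -- `E` is injective
  have hEinj : Module.Injective A E := by
    have h1 : Module.Injective A (gam T E0) := gam_injective T
    obtain ⟨r, hr⟩ := h1.out (gam T E0).subtype Subtype.val_injective LinearMap.id
    let σ : E →ₗ[A] E0 := (gam T E0).liftQ (LinearMap.id - (gam T E0).subtype ∘ₗ r) (by
      intro x hx
      have h2 : r x = ⟨x, hx⟩ := hr ⟨x, hx⟩
      rw [LinearMap.mem_ker, LinearMap.sub_apply, LinearMap.comp_apply, h2]
      exact sub_self x)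
    have hσ : ∀ x : E, (gam T E0).mkQ (σ x) = x := by
      intro x
      obtain ⟨x, rfl⟩ := (gam T E0).mkQ_surjective x
      have h2 : σ ((gam T E0).mkQ x) = x - (r x : E0) := rfl
      rw [h2, map_sub, sub_eq_self]
      exact (Submodule.Quotient.mk_eq_zero _).2 (r x).2
    refine ⟨fun X Y _ _ _ _ a ha b => ?_⟩
    obtain ⟨c, hc⟩ := hE0.out a ha (σ ∘ₗ b)
    refine ⟨(gam T E0).mkQ ∘ₗ c, fun x => ?_⟩
    rw [LinearMap.comp_apply, hc, LinearMap.comp_apply, hσ]
  let g : (M ⧸ gam T M) →ₗ[A] E := (gam T E0).mkQ.comp f0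
  have hg : Function.Injective g := by
    rw [injective_iff_map_eq_zero]
    intro x hx
    have h1 : f0 x ∈ gam T E0 := (Submodule.Quotient.mk_eq_zero _).1 hx
    have h2 := mem_gam_of_injective f0 hf0 h1
    rwa [gam_quotient_gam T M] at h2
  let N : Submodule A E := LinearMap.range g
  let e : (M ⧸ gam T M) ≃ₗ[A] N := LinearEquiv.ofInjective g hg
  have hNf : Module.Finite A N := Module.Finite.equiv e
  have hdep : ∀ p : PrimeSpectrum A, p ∉ T → Algz.depthAt p M = Algz.depthAt p N := by
    intro p hp
    refine (depth_quotient_gam T M p hp).trans ?_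
    exact Groth.Agent.Localalg.Depth.idealDepth_congr_equiv _
      ((IsLocalizedModule.mapEquiv p.asIdeal.primeCompl
        (LocalizedModule.mkLinearMap p.asIdeal.primeCompl (M ⧸ gam T M))
        (LocalizedModule.mkLinearMap p.asIdeal.primeCompl N) (Localization.AtPrime p.asIdeal) e))
  -- the finite stage
  obtain ⟨F, hF⟩ : 𝔞.FG := (isNoetherianRing_iff_ideal_fg A).1 inferInstance 𝔞
  have hex : ∀ x : F, ∃ Y : Submodule A (E ⧸ N), Y.FG ∧ Y ≤ gam T (E ⧸ N) ∧
      ∀ y ∈ gam T (E ⧸ N), ∃ s : Submonoid.powers x.1, s • y ∈ Y := by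
    rintro ⟨x, hx⟩
    refine exists_fg (Submonoid.powers x) T hT (finite_gam_loc hA T hT _ hE N ?_)
    intro p q hpq hq hp hdis
    rw [← hdep p hp]
    refine hM p q hpq hq hp (fun hle => ?_)
    exact Set.disjoint_left.1 hdis (Submonoid.mem_powers x) (hle (hF ▸ Ideal.subset_span hx))
  choose Y hYfg hYle hYex using hex
  let Y0 : Submodule A (E ⧸ N) := ⨆ x, Y x
  have hY0fg : Y0.FG := Submodule.fg_iSup Y hYfg
  have hY0le : Y0 ≤ gam T (E ⧸ N) := iSup_le hYle
  have hY0ex : ∀ p : PrimeSpectrum A, ¬ 𝔞 ≤ p.asIdeal → ∀ y ∈ gam T (E ⧸ N),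
      ∃ s : p.asIdeal.primeCompl, s • y ∈ Y0 := by
    intro p hp y hy
    obtain ⟨x, hx, hxp⟩ : ∃ x ∈ F, x ∉ p.asIdeal := by
      by_contra hcon
      push Not at hcon
      exact hp (hF ▸ Ideal.span_le.2 hcon)
    obtain ⟨⟨s, hs⟩, hsy⟩ := hYex ⟨x, hx⟩ y hy
    have hs' : s ∈ p.asIdeal.primeCompl := by
      have h1 : Submonoid.powers x ≤ p.asIdeal.primeCompl := by
        rw [Submonoid.powers_le]
        exact hxp
      exact h1 hs
    exact ⟨⟨s, hs'⟩, (le_iSup Y ⟨x, hx⟩) hsy⟩
  let M'' : Submodule A E := Y0.comap N.mkQ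
  have hNle : N ≤ M'' := by
    intro x hx
    have : N.mkQ x = 0 := (Submodule.Quotient.mk_eq_zero _).2 hx
    change N.mkQ x ∈ Y0
    rw [this]
    exact zero_mem _
  have hM''fg : M''.FG := by
    refine Submodule.fg_of_fg_map_of_fg_inf_ker N.mkQ ?_ ?_
    · rw [Submodule.map_comap_eq_of_surjective (Submodule.mkQ_surjective N)]
      exact hY0fg
    · rw [Submodule.ker_mkQ, inf_eq_right.2 hNle]
      exact Module.Finite.iff_fg.1 (Module.Finite.equiv e)
  have hM'' : Module.Finite A M'' := Module.Finite.iff_fg.2 hM''fg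
  let f : M →ₗ[A] M'' := (g.comp (gam T M).mkQ).codRestrict M'' (fun x => hNle ⟨_, rfl⟩)
  refine ⟨M'', inferInstance, inferInstance, hM'', f, ?_, ?_⟩
  · refine bijective_map T f (fun x hx => ?_) (fun y => ?_)
    · have h2 : g ((gam T M).mkQ x) = 0 := congrArg Subtype.val hx
      have h3 : (gam T M).mkQ x = 0 := hg (h2.trans (map_zero g).symm)
      exact (Submodule.Quotient.mk_eq_zero _).1 h3
    · obtain ⟨m, hm⟩ := y
      have hm' : N.mkQ m ∈ gam T (E ⧸ N) := hY0le hm
      obtain ⟨J, hJ, hJx⟩ := (mem_gam_iff_exists (N.mkQ m)).1 hm'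
      refine ⟨J, hJ, fun j hj => ?_⟩
      have h1 : j • m ∈ N := by
        have := hJx j hj
        rw [← map_smul] at this
        exact (Submodule.Quotient.mk_eq_zero _).1 this
      obtain ⟨y, hy⟩ := h1
      obtain ⟨y, rfl⟩ := Submodule.mkQ_surjective _ y
      exact ⟨y, Subtype.ext hy⟩
  · intro p hp hp𝔞
    let S : Submonoid A := p.asIdeal.primeCompl
    have hNoeth : IsNoetherianRing (Localization S) :=
      IsLocalization.isNoetherianRing S _ inferInstance
    have hinj : Module.Injective (Localization S) (LocalizedModule S E) :=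
      Module.Baer.iff_injective.1 (Groth.Agent.CurvesB.InjLoc.baer_of_isLocalizedModule S
        (Localization S) (LocalizedModule.mkLinearMap S E) (Module.Baer.iff_injective.2 hEinj))
    have hES : gam (TS S T) (LocalizedModule S E) = ⊥ := gam_localized_eq_bot S T hT
      (fun y hy => by
        rw [hE, Submodule.mem_bot] at hy
        exact ⟨1, by rw [hy, smul_zero]⟩)
    have hPf : Module.Finite (Localization S) (M''.localized S) :=
      Module.Finite.of_isLocalizedModule S (M''.toLocalized S)
    have hEP : gam (TS S T) (LocalizedModule S E ⧸ M''.localized S) = ⊥ := by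
      have h1 : gam (TS S T) (LocalizedModule S (E ⧸ M'')) = ⊥ := by
        refine gam_localized_eq_bot S T hT (fun x hx => ?_)
        obtain ⟨x, rfl⟩ := Submodule.Quotient.mk_surjective _ x
        let h : (E ⧸ M'') →ₗ[A] ((E ⧸ N) ⧸ gam T (E ⧸ N)) :=
          M''.liftQ ((gam T (E ⧸ N)).mkQ.comp N.mkQ)
            (fun y hy => (Submodule.Quotient.mk_eq_zero _).2 (hY0le hy))
        have h1 := map_mem_gam h hx
        rw [gam_quotient_gam] at h1
        have h2 : N.mkQ x ∈ gam T (E ⧸ N) := (Submodule.Quotient.mk_eq_zero _).1 h1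
        obtain ⟨s, hs⟩ := hY0ex p hp𝔞 _ h2
        refine ⟨s, ?_⟩
        change (s : A) • (Submodule.Quotient.mk x : E ⧸ M'') = 0
        rw [← Submodule.Quotient.mk_smul, Submodule.Quotient.mk_eq_zero]
        change N.mkQ ((s : A) • x) ∈ Y0
        rw [map_smul]
        exact hs
      rw [eq_bot_iff]
      intro x hx
      have h2 := map_mem_gam (localizedQuotientEquiv S M'').toLinearMap hx
      rw [h1, Submodule.mem_bot] at h2
      exact (Submodule.mem_bot _).2 ((localizedQuotientEquiv S M'').map_eq_zero_iff.1 h2)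
    let P0 : PrimeSpectrum (Localization.AtPrime p.asIdeal) := IsLocalRing.closedPoint _
    have hP0 : PrimeSpectrum.comap (algebraMap A (Localization.AtPrime p.asIdeal)) P0 = p :=
      PrimeSpectrum.ext (Localization.AtPrime.under_maximalIdeal (I := p.asIdeal))
    have hP0T : P0 ∈ TS S T := by
      change PrimeSpectrum.comap (algebraMap A (Localization.AtPrime p.asIdeal)) P0 ∈ T
      rw [hP0]
      exact hp
    have key := two_le_depth (TS S T) (stable_TS S T hT) hES (M''.localized S) hEP P0 hP0T
    have h5 : (2 : ℕ∞) ≤ Algz.depthAt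
      (PrimeSpectrum.comap (algebraMap A (Localization.AtPrime p.asIdeal)) P0) M'' :=
      key.trans (depth_localized S M'' P0).le
    rwa [hP0] at h5

end Main

end K165.Improve
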